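import Cfsg.Agent.H723.Pair.BTrace
import Cfsg.Agent.H723.Pair.BChar
import Cfsg.Agent.H387.VO.Main
import Cfsg.Agent.CpAut.TwoInnerB

/-!
# Two classes of vanishing elements of order 28 of the Baby Monster (helper434)

Two monomial words of order 28 with trace 0 in degree 4371; the traces of their squares are `2` and `-2`.
-/

set_option autoImplicit false
set_option maxRecDepth 100000

namespace Cfsg.Agent.H434.Spor.B

open Cfsg Cfsg.Agent.H713 Cfsg.Agent.H387.VO
open Cfsg.Agent.BabyM.Conc Cfsg.Agent.BabyM Cfsg.Agent.Monster.VecSpace Cfsg.Agent.Monster.VecEngine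
open Cfsg.Agent.H863.BRep Cfsg.Agent.H723.Pair Cfsg.Agent.H723.Pair.BTrace

/-- The element of the Baby Monster of a word. -/
noncomputable def el (v : List Ltr) : Spor.BabyMonster := H863.BGL.iso.symm (gW v)

theorem gW_pow (v : List Ltr) (n : ℕ) : gW v ^ n = gW (List.replicate n v).flatten :=
  Subtype.ext (W_pow v n)

theorem el_pow (v : List Ltr) (n : ℕ) : el v ^ n = el (List.replicate n v).flatten := by
  unfold el
  rw [← map_pow, gW_pow]

/-- the trace of a word -/
noncomputable def tr (v : List Ltr) : ℚ := LinearMap.trace ℚ V (W v : V →ₗ[ℚ] V)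

theorem tr_eq_of {v : List Ltr} {a : ℚ} (h : LinearMap.trace ℚ V (W v : V →ₗ[ℚ] V) = a) : tr v = a := h

theorem el_ne_one {v : List Ltr} {a : ℚ} (h : tr v = a) (ha : a ≠ 4371) : el v ≠ 1 := by
  intro h1
  refine W_ne_one h ha ?_
  have h2 : gW v = 1 := by
    have h3 := congrArg H863.BGL.iso h1
    unfold el at h3
    rwa [MulEquiv.apply_symm_apply, map_one] at h3
  exact congrArg Subtype.val h2

/-- A word with trace 0 gives an element with `VZ`. -/
theorem vz_of_tr {v : List Ltr} (h : tr v = 0) : VZ Spor.BabyMonster (el v) := by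
  obtain ⟨χ, h1, h2, h3⟩ := BChar.exists_chi
  refine ⟨⟨χ, h1⟩, fun α => ?_⟩
  obtain ⟨g, hg⟩ := Cfsg.Agent.CpAut.TwoInner.inner_b α
  have h4 : χ (el v) = 0 := by
    rw [el, h3]
    have h6 : LinearMap.trace ℚ V ((gW v : V ≃ₗ[ℚ] V) : V →ₗ[ℚ] V) = 0 := h
    rw [h6]
    norm_num
  rw [← h4]
  show χ (α (el v)) = χ (el v)
  rw [hg, MulAut.conj_apply]
  exact Characters.Core.isIrr_isClassFunction h1 (el v) g

/-- Different traces: not conjugate under automorphisms. -/
theorem ne_of_tr {v w : List Ltr} (n : ℕ) {a b : ℚ} (hv : tr (List.replicate n v).flatten = a)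
    (hw : tr (List.replicate n w).flatten = b) (hab : a ≠ b) (α : MulAut Spor.BabyMonster) :
    α (el v) ≠ el w := by
  intro h
  obtain ⟨χ, h1, h2, h3⟩ := BChar.exists_chi
  obtain ⟨g, hg⟩ := Cfsg.Agent.CpAut.TwoInner.inner_b α
  have key : ∀ {u : List Ltr} {c : ℚ}, tr (List.replicate n u).flatten = c → χ (el u ^ n) = (c : ℂ) := by
    intro u c hc
    rw [el_pow, el, h3, ← hc]
    rfl
  have h4 : α (el v ^ n) = el w ^ n := by rw [map_pow, h]
  have h5 : χ (α (el v ^ n)) = χ (el v ^ n) := by
    rw [hg, MulAut.conj_apply]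
    exact Characters.Core.isIrr_isClassFunction h1 (el v ^ n) g
  rw [h4, key hv, key hw] at h5
  exact hab (by exact_mod_cast h5.symm)

/-- The order of a word. -/
theorem dvd_order {p m : ℕ} (hp : p.Prime) {v : List Ltr} (h1 : W (List.replicate (p * m) v).flatten = 1)
    {a : ℚ} (h2 : tr (List.replicate m v).flatten = a) (ha : a ≠ 4371) : p ∣ orderOf (el v) := by
  have h3 : el v ^ (p * m) = 1 := by
    rw [el_pow, el]
    have h4 : gW (List.replicate (p * m) v).flatten = 1 := Subtype.ext h1
    rw [h4, map_one]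
  have h5 : orderOf (el v) ∣ p * m := orderOf_dvd_of_pow_eq_one h3
  by_contra hc
  have h6 : orderOf (el v) ∣ m := by
    refine Nat.Coprime.dvd_of_dvd_mul_left ?_ h5
    exact ((Nat.Prime.coprime_iff_not_dvd hp).2 hc).symm
  have h7 := orderOf_dvd_iff_pow_eq_one.1 h6
  rw [el_pow] at h7
  exact el_ne_one h2 ha h7

theorem tr_of {v : List Ltr} (hm : allMono (v.map Ltr.prog) = true) {a b : ℕ} (ha : a < 2 ^ 13) (hb : b < 2 ^ 13)
    (h : trChk U 13 (v.map Ltr.prog) a b = true) : tr v = (a : ℚ) - b := W_trace hm ha hb h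

/-- first word: order 28, trace 0, the square has trace 2 -/
def w1 : List Ltr := [.p9, .hi, .p4, .X7]

/-- second word: order 28, trace 0, the square has trace -2 -/
def w2 : List Ltr := [.p, .X10, .y9, .p, .hi]

theorem w1_tr : tr w1 = 0 := by
  rw [tr_of (v := w1) (a := 3) (b := 3) (by decide +kernel) (by norm_num) (by norm_num) (by decide +kernel)]
  norm_num

theorem w1_tr2 : tr (List.replicate 2 w1).flatten = 2 := by
  rw [tr_of (a := 6) (b := 4) (by decide +kernel) (by norm_num) (by norm_num) (by decide +kernel)]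
  norm_num

theorem w1_tr4 : tr (List.replicate 4 w1).flatten = 10 := by
  rw [tr_of (a := 10) (b := 0) (by decide +kernel) (by norm_num) (by norm_num) (by decide +kernel)]
  norm_num

theorem w1_pow : W (List.replicate (7 * 4) w1).flatten = 1 := W_eq_one (by decide +kernel) (by decide +kernel)

theorem w2_tr : tr w2 = 0 := by
  rw [tr_of (v := w2) (a := 1) (b := 1) (by decide +kernel) (by norm_num) (by norm_num) (by decide +kernel)]
  norm_num

theorem w2_tr2 : tr (List.replicate 2 w2).flatten = -2 := by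
  rw [tr_of (a := 2) (b := 4) (by decide +kernel) (by norm_num) (by norm_num) (by decide +kernel)]
  norm_num

theorem w2_tr4 : tr (List.replicate 4 w2).flatten = 10 := by
  rw [tr_of (a := 10) (b := 0) (by decide +kernel) (by norm_num) (by norm_num) (by decide +kernel)]
  norm_num

theorem w2_pow : W (List.replicate (7 * 4) w2).flatten = 1 := W_eq_one (by decide +kernel) (by decide +kernel)

theorem twoVan_seven : TwoVan 7 Spor.BabyMonster :=
  ⟨el w1, el w2, dvd_order (by norm_num) w1_pow w1_tr4 (by norm_num), dvd_order (by norm_num) w2_pow w2_tr4 (by norm_num),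
    vz_of_tr w1_tr, vz_of_tr w2_tr, ne_of_tr 2 w1_tr2 w2_tr2 (by norm_num)⟩

/-- **Two classes of vanishing `7`-singular elements of the Baby Monster.** -/
theorem two_b_7 {K : Type*} [Group K] (h : Spor.IsoB K) : TwoVan 7 K := by
  obtain ⟨e⟩ := h
  exact twoVan_seven.mulEquiv e.symm

end Cfsg.Agent.H434.Spor.B
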